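import Groth.Agent.H10Coh.TwistSect.Basic
import Groth.Agent.H10Coh.AmpleVanishing
import Groth.Agent.H10Coh.ProjFormulaFLF
import Groth.Agent.LeadProper.PushRpush
import Groth.Agent.LeadDev.Basic
import Groth.Agent.H11Ample.RelPullback
import Groth.Agent.H23Para.Restrict

/-!
# Twists of coherent modules with proper support
-/

set_option autoImplicit false
set_option linter.style.haveILetI false
set_option backward.isDefEq.respectTransparency.types false

noncomputable section

universe u

open CategoryTheory CategoryTheory.Limits AlgebraicGeometry TopologicalSpace Opposite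
open Groth.Agent.H11Tilde Groth.Agent.H11Ample

namespace Groth.Agent.H10Coh.TwistSupp

attribute [local instance 10000] hasSheafifyAb hasWeakSheafifyAb hasExtAb enoughInjAb
attribute [local instance] enoughInjMod

variable {X Y Z : Scheme.{u}}

/-- The projection formula for a twist. -/
theorem nonempty_push_tensor (i : Z ⟶ X) (G : Z.Modules) {N : X.Modules} (hN : PicF.IsInvertible N) :
    Nonempty (CohB1.tensorMod ((Coh.push i).obj G) N ≅
      (Coh.push i).obj (CohB1.tensorMod G ((Scheme.Modules.pullback i).obj N))) := by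
  have h := PF.isIso_ψ_of_isFinLocFree i (H23Para.isFinLocFree_of_isInvertible hN) G
  exact ⟨@asIso _ _ _ _ _ h⟩

/-- Serre vanishing for modules with proper support, relative to an ample sheaf. -/
theorem exists_isZero_rpush (f : X ⟶ Y) [IsNoetherian Y] [LocallyOfFiniteType f] [QuasiCompact f]
    {L : X.Modules} (hL : PicF.IsInvertible L) (hamp : RelAmple.IsRelAmple f L)
    (F : X.Modules) (hF : Coh.IsCoh F) (hs : ClSub.IsProperOver f (CohB1.support F)) :
    ∃ N : ℕ, ∀ n : ℕ, N ≤ n →
      IsZero ((Coh.Rpush f 1).obj (CohB1.tensorMod F (CohB1.tensorPow L n))) := by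
  haveI : IsLocallyNoetherian X := LocallyOfFiniteType.isLocallyNoetherian f
  set I := Fitt.sheafIdeal F 0
  have hr : Set.range I.subschemeι = CohB1.support F := by
    rw [Scheme.IdealSheafData.range_subschemeι, LeadProper.support_eq_fitt F hF.1 hF.2]
  let i := I.subschemeι
  haveI : IsProper (i ≫ f) := (LeadProper.isProperOver_iff f _ hr).1 hs
  haveI : IsIso ((Scheme.Modules.pullbackPushforwardAdjunction i).unit.app F) :=
    LeadProper.isIso_unit_of_killedByIdeal F hF.1 _ (by
      rw [Scheme.IdealSheafData.ker_subschemeι]; exact LeadProper.killedByIdeal_fitt F hF.1 hF.2)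
  let G := (Scheme.Modules.pullback i).obj F
  have hG : Coh.IsCoh G := ⟨H29Fitt.isQCoh_pullback _ F hF.1, H29Fitt.isFT_pullback _ F hF.1 hF.2⟩
  haveI : IsLocallyNoetherian I.subscheme := LocallyOfFiniteType.isLocallyNoetherian (i ≫ f)
  have hA := isRelAmple_pullback_of_isQuasiAffine
    (isQuasiAffineHom_of_isEmbedding i i.isClosedEmbedding.isEmbedding) hamp
  obtain ⟨N, hN⟩ := Tw.exists_isZero_rpush (i ≫ f) (isInvertible_pullback i hL)
    (fun W hW => hA.2 ⟨W, hW⟩) G hG
  refine ⟨N, fun n hn => ?_⟩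
  obtain ⟨e₁⟩ := nonempty_push_tensor i G (isInvertible_tensorPow hL n)
  obtain ⟨e₂⟩ := exists_iso_pullback_tensorPow i hL n
  obtain ⟨e₃⟩ := LeadProper.nonempty_rpush_push f i
    (CohB1.tensorMod G (CohB1.tensorPow ((Scheme.Modules.pullback i).obj L) n)) 1
  have hz := (hN n hn 1 one_pos).of_iso
    (nonempty_toAb_rpush (i ≫ f)
      (CohB1.tensorMod G (CohB1.tensorPow ((Scheme.Modules.pullback i).obj L) n)) 1).some
  have hz' : IsZero ((Coh.Rpush (i ≫ f) 1).obj
      (CohB1.tensorMod G (CohB1.tensorPow ((Scheme.Modules.pullback i).obj L) n))) := by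
    rw [IsZero.iff_id_eq_zero]
    exact (shF Y).map_injective (hz.eq_of_src _ _)
  refine hz'.of_iso ((Coh.Rpush f 1).mapIso ?_ ≪≫ e₃)
  exact PicGrp.tensorModIso (asIso ((Scheme.Modules.pullbackPushforwardAdjunction i).unit.app F))
    (Iso.refl _) ≪≫ e₁ ≪≫ (Coh.push i).mapIso (PicGrp.tensorModIso (Iso.refl _) e₂)

theorem exists_exact_push (f : X ⟶ Y) [IsNoetherian Y] [LocallyOfFiniteType f] [QuasiCompact f]
    {L : X.Modules} (hL : PicF.IsInvertible L) (hamp : RelAmple.IsRelAmple f L)
    (C : ShortComplex X.Modules) (hC : C.Exact) (h1 : Coh.IsCoh C.X₁) (h2 : Coh.IsCoh C.X₂)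
    (h3 : Coh.IsCoh C.X₃) (hs1 : ClSub.IsProperOver f (CohB1.support C.X₁)) :
    ∃ N : ℕ, ∀ n : ℕ, N ≤ n →
      (C.map (DCoh.tensorRightMod (CohB1.tensorPow L n) ⋙ Coh.push f)).Exact := by
  haveI : IsLocallyNoetherian X := LocallyOfFiniteType.isLocallyNoetherian f
  let e := kernel.lift C.g C.f C.zero
  haveI : Epi e := (C.exact_iff_epi_kernel_lift).1 hC
  have hK := isCoh_kernel e h1 (isCoh_kernel C.g h2 h3.1).1
  obtain ⟨N, hN⟩ := exists_isZero_rpush f hL hamp (kernel e) hK
    (LeadProper.isProperOver_mono hs1 (LeadProper.isClosed_support _ hK.1 hK.2)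
      (LeadDev.support_subset_of_mono (kernel.ι e)))
  refine ⟨N, fun n hn => ?_⟩
  have hLn := isInvertible_tensorPow hL n
  let T := DCoh.tensorRightMod (CohB1.tensorPow L n)
  haveI := TwistSect.preservesFiniteLimits_tensorRightMod hLn
  haveI : (Scheme.Modules.pushforward f).IsRightAdjoint :=
    (Scheme.Modules.pullbackPushforwardAdjunction f).isRightAdjoint
  haveI : PreservesFiniteLimits (Coh.push f) :=
    inferInstanceAs (PreservesFiniteLimits (Scheme.Modules.pushforward f))
  haveI : (Scheme.Modules.pushforward f).Additive := inferInstance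
  haveI : PreservesFiniteLimits (T ⋙ Coh.push f) := comp_preservesFiniteLimits _ _
  let S₁ := ShortComplex.mk (kernel.ι e) e (kernel.condition e)
  have hS₁ : S₁.ShortExact := { exact := ShortComplex.exact_of_f_is_kernel S₁ (kernelIsKernel e) }
  haveI : Epi ((Coh.push f).map (T.map e)) :=
    H16Derived.AcyclicLES.epi_map_g (Scheme.Modules.pushforward f) (Tw.shortExact_seq hS₁ hLn) (hN n hn)
  have hfac : (T ⋙ Coh.push f).map C.f = (Coh.push f).map (T.map e) ≫ (T ⋙ Coh.push f).map (kernel.ι C.g) := by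
    rw [Functor.comp_map, Functor.comp_map, ← Functor.map_comp, ← Functor.map_comp, kernel.lift_ι]
  let K₀ := (ShortComplex.mk (kernel.ι C.g) C.g (kernel.condition C.g)).map (T ⋙ Coh.push f)
  have hK₀ : K₀.Exact :=
    ((ShortComplex.exact_of_f_is_kernel
      (ShortComplex.mk (kernel.ι C.g) C.g (kernel.condition C.g)) (kernelIsKernel C.g))).map_of_mono_of_preservesKernel
        (T ⋙ Coh.push f) inferInstance inferInstance
  let φ : C.map (T ⋙ Coh.push f) ⟶ K₀ :=
    { τ₁ := (Coh.push f).map (T.map e)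
      τ₂ := 𝟙 _
      τ₃ := 𝟙 _
      comm₁₂ := hfac.symm.trans (Category.comp_id _).symm
      comm₂₃ := (Category.id_comp _).trans (Category.comp_id _).symm }
  haveI : Epi φ.τ₁ := inferInstanceAs (Epi ((Coh.push f).map (T.map e)))
  haveI : IsIso φ.τ₂ := inferInstanceAs (IsIso (𝟙 _))
  haveI : Mono φ.τ₃ := inferInstanceAs (Mono (𝟙 _))
  exact (ShortComplex.exact_iff_of_epi_of_isIso_of_mono φ).2 hK₀

end Groth.Agent.H10Coh.TwistSupp
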